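/- Conjugacy in GL₂ and SL₂.
Main results: `mul_cyc`, `exists_qf_ne_zero`, `gl_isConj_iff`, `sl_isConj_of_qf_eq`,
`exists_qf_eq_one`, `card_classes_gl2`, `card_classes_sl2_even`, `card_classes_sl2_odd`. -/
import Cfsg.Agent.EqLemmas

set_option autoImplicit false

namespace Cfsg.Agent.TwoByTwo

open Matrix

variable {F : Type*} [Field F]

/-- `det [v | A v]` as a quadratic form in `v`. -/
def qf (A : Matrix (Fin 2) (Fin 2) F) (x y : F) : F :=
  A 1 0 * x ^ 2 + (A 1 1 - A 0 0) * x * y - A 0 1 * y ^ 2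

/-- `[v | A v]`. -/
def cyc (A : Matrix (Fin 2) (Fin 2) F) (x y : F) : Matrix (Fin 2) (Fin 2) F :=
  !![x, A 0 0 * x + A 0 1 * y; y, A 1 0 * x + A 1 1 * y]

/-- The companion matrix with trace `t` and determinant `d`. -/
def companion2 (t d : F) : Matrix (Fin 2) (Fin 2) F := !![0, -d; 1, t]

theorem det_cyc (A : Matrix (Fin 2) (Fin 2) F) (x y : F) : (cyc A x y).det = qf A x y := by
  simp [cyc, qf, Matrix.det_fin_two]; ring

theorem mul_cyc (A : Matrix (Fin 2) (Fin 2) F) (x y : F) :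
    A * cyc A x y = cyc A x y * companion2 A.trace A.det := by
  ext i j
  fin_cases i <;> fin_cases j <;>
    simp [cyc, companion2, Matrix.mul_apply, Fin.sum_univ_two, Matrix.det_fin_two, Matrix.trace_fin_two] <;>
    ring

/-- Scalar matrices of size two. -/
def IsScalar (A : Matrix (Fin 2) (Fin 2) F) : Prop := A 0 1 = 0 ∧ A 1 0 = 0 ∧ A 0 0 = A 1 1

theorem IsScalar.eq {A : Matrix (Fin 2) (Fin 2) F} (h : IsScalar A) : A = scalar (Fin 2) (A 0 0) := by
  obtain ⟨h1, h2, h3⟩ := h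
  ext i j; fin_cases i <;> fin_cases j <;> simp_all

theorem isScalar_scalar (r : F) : IsScalar (scalar (Fin 2) r) := by simp [IsScalar]

theorem not_isScalar_companion2 (t d : F) : ¬ IsScalar (companion2 t d) := by simp [IsScalar, companion2]

theorem trace_companion2 (t d : F) : (companion2 t d).trace = t := by simp [companion2, Matrix.trace_fin_two]

theorem det_companion2 (t d : F) : (companion2 t d).det = d := by simp [companion2, Matrix.det_fin_two]

theorem exists_qf_ne_zero {A : Matrix (Fin 2) (Fin 2) F} (h : ¬ IsScalar A) :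
    ∃ x y, qf A x y ≠ 0 := by
  by_contra hc
  push Not at hc
  apply h
  have h1 := hc 1 0
  have h2 := hc 0 1
  have h3 := hc 1 1
  simp only [qf] at h1 h2 h3
  exact ⟨by linear_combination -h2, by linear_combination h1,
    by linear_combination h1 + h2 - h3⟩

theorem sl_isConj_of_qf_eq {A B : SpecialLinearGroup (Fin 2) F}
    (ht : (A : Matrix (Fin 2) (Fin 2) F).trace = (B : Matrix (Fin 2) (Fin 2) F).trace)
    {x y x' y' : F} (he : qf (A : Matrix (Fin 2) (Fin 2) F) x y = qf (B : Matrix (Fin 2) (Fin 2) F) x' y')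
    (h0 : qf (A : Matrix (Fin 2) (Fin 2) F) x y ≠ 0) : IsConj A B := by
  set P := cyc (A : Matrix (Fin 2) (Fin 2) F) x y with hPdef
  set Q := cyc (B : Matrix (Fin 2) (Fin 2) F) x' y' with hQdef
  have hP : IsUnit P.det := by rw [det_cyc]; exact h0.isUnit
  have hdet : (Q * P⁻¹).det = 1 := by
    rw [det_mul, det_nonsing_inv, det_cyc, det_cyc, ← he, Ring.mul_inverse_cancel _ h0.isUnit]
  let g : SpecialLinearGroup (Fin 2) F := ⟨Q * P⁻¹, hdet⟩
  refine isConj_iff.2 ⟨g, ?_⟩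
  suffices g * A = B * g by rw [this, mul_inv_cancel_right]
  apply Subtype.ext
  show Q * P⁻¹ * A.1 = B.1 * (Q * P⁻¹)
  rw [← Matrix.mul_assoc B.1, hQdef, mul_cyc,
    show companion2 B.1.trace B.1.det = companion2 A.1.trace A.1.det from congrArg₂ companion2 ht.symm (B.2.trans A.2.symm)]
  have : companion2 A.1.trace A.1.det = P⁻¹ * A.1 * P := by
    rw [Matrix.mul_assoc, hPdef, mul_cyc, ← Matrix.mul_assoc, ← hPdef, Matrix.nonsing_inv_mul P hP,
      Matrix.one_mul]
  rw [this]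
  simp only [Matrix.mul_assoc, Matrix.mul_nonsing_inv P hP, Matrix.mul_one]

theorem gl_isConj_of_eq {A B : GL (Fin 2) F}
    (hA : ¬ IsScalar (A : Matrix (Fin 2) (Fin 2) F)) (hB : ¬ IsScalar (B : Matrix (Fin 2) (Fin 2) F))
    (ht : (A : Matrix (Fin 2) (Fin 2) F).trace = (B : Matrix (Fin 2) (Fin 2) F).trace)
    (hd : (A : Matrix (Fin 2) (Fin 2) F).det = (B : Matrix (Fin 2) (Fin 2) F).det) : IsConj A B := by
  obtain ⟨x, y, h⟩ := exists_qf_ne_zero hA
  obtain ⟨x', y', h'⟩ := exists_qf_ne_zero hB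
  set P := cyc (A : Matrix (Fin 2) (Fin 2) F) x y with hPdef
  set Q := cyc (B : Matrix (Fin 2) (Fin 2) F) x' y' with hQdef
  let p : GL (Fin 2) F := GeneralLinearGroup.mkOfDetNeZero P (by rw [det_cyc]; exact h)
  let r : GL (Fin 2) F := GeneralLinearGroup.mkOfDetNeZero Q (by rw [det_cyc]; exact h')
  refine isConj_iff.2 ⟨r * p⁻¹, ?_⟩
  have e1 : A * p = p * GeneralLinearGroup.mkOfDetNeZero
      (companion2 (A : Matrix (Fin 2) (Fin 2) F).trace (A : Matrix (Fin 2) (Fin 2) F).det)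
      (by rw [det_companion2]; exact A.det_ne_zero) := Units.ext (mul_cyc _ _ _)
  have e2 : B * r = r * GeneralLinearGroup.mkOfDetNeZero
      (companion2 (A : Matrix (Fin 2) (Fin 2) F).trace (A : Matrix (Fin 2) (Fin 2) F).det)
      (by rw [det_companion2]; exact A.det_ne_zero) := Units.ext (by
        simp only [ht, hd]; exact mul_cyc _ _ _)
  rw [mul_inv_eq_iff_eq_mul, ← mul_assoc B, e2, mul_assoc, mul_assoc]
  congr 1
  rw [eq_mul_inv_iff_mul_eq, mul_assoc, e1, inv_mul_cancel_left]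

theorem gl_trace_eq {A B : GL (Fin 2) F} (h : IsConj A B) :
    (A : Matrix (Fin 2) (Fin 2) F).trace = (B : Matrix (Fin 2) (Fin 2) F).trace ∧
    (A : Matrix (Fin 2) (Fin 2) F).det = (B : Matrix (Fin 2) (Fin 2) F).det ∧
    (IsScalar (A : Matrix (Fin 2) (Fin 2) F) → A = B) := by
  obtain ⟨c, rfl⟩ := isConj_iff.1 h
  refine ⟨?_, ?_, fun hs => ?_⟩
  · simp only [Units.val_mul, Matrix.coe_units_inv]
    rw [Matrix.trace_mul_comm, ← Matrix.mul_assoc, Matrix.nonsing_inv_mul _ (Matrix.isUnits_det_units c),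
      Matrix.one_mul]
  · simp only [Units.val_mul, Matrix.coe_units_inv, Matrix.det_mul, Matrix.det_nonsing_inv]
    have hc : IsUnit (c : Matrix (Fin 2) (Fin 2) F).det := (Matrix.isUnits_det_units c)
    rw [mul_comm _ (A : Matrix (Fin 2) (Fin 2) F).det, mul_assoc, Ring.mul_inverse_cancel _ hc,
      mul_one]
  · rw [eq_mul_inv_iff_mul_eq]
    apply Units.ext
    rw [Units.val_mul, Units.val_mul, hs.eq]
    exact scalar_commute _ (fun r => Commute.all _ r) _

theorem sl_trace_eq {A B : SpecialLinearGroup (Fin 2) F} (h : IsConj A B) :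
    (A : Matrix (Fin 2) (Fin 2) F).trace = (B : Matrix (Fin 2) (Fin 2) F).trace ∧
    (IsScalar (A : Matrix (Fin 2) (Fin 2) F) → A = B) := by
  have h' := gl_trace_eq (MonoidHom.map_isConj SpecialLinearGroup.toGL h)
  refine ⟨h'.1, fun hs => ?_⟩
  have := congrArg (fun g : GL (Fin 2) F => (g : Matrix (Fin 2) (Fin 2) F)) (h'.2.2 hs)
  exact Subtype.ext this

theorem qf_smul (A : Matrix (Fin 2) (Fin 2) F) (s x y : F) :
    qf A (s * x) (s * y) = s ^ 2 * qf A x y := by
  simp only [qf]; ring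

theorem exists_qf_eq_one [Fintype F] (h2 : ringChar F ≠ 2) {A : Matrix (Fin 2) (Fin 2) F}
    (hd : (A.trace) ^ 2 - 4 * A.det ≠ 0) : ∃ x y, qf A x y = 1 := by
  rw [Matrix.trace_fin_two, Matrix.det_fin_two] at hd
  have h2' : (2 : F) ≠ 0 := Ring.two_ne_zero h2
  by_cases ha : A 1 0 = 0
  · have hb : A 1 1 - A 0 0 ≠ 0 := fun h => hd (by linear_combination (4 * A 0 1) * ha + (A 1 1 - A 0 0) * h)
    exact ⟨(1 + A 0 1) / (A 1 1 - A 0 0), 1, by simp [qf, ha]; field_simp; ring⟩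
  · set D := (A 0 0 + A 1 1) ^ 2 - 4 * (A 0 0 * A 1 1 - A 0 1 * A 1 0) with hD
    obtain ⟨u, y, huy⟩ := FiniteField.exists_root_sum_quadratic
      (f := Polynomial.X ^ 2 - Polynomial.C (4 * A 1 0))
      (g := Polynomial.C (-D) * Polynomial.X ^ 2)
      (Polynomial.degree_X_pow_sub_C (by norm_num) _) (Polynomial.degree_C_mul_X_pow 2 (neg_ne_zero.2 hd))
      (FiniteField.odd_card_of_char_ne_two h2)
    simp at huy
    refine ⟨(u - (A 1 1 - A 0 0) * y) / (2 * A 1 0), y, ?_⟩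
    simp only [qf]
    field_simp
    rw [hD] at huy
    linear_combination huy

end Cfsg.Agent.TwoByTwo
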